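import Mathlib
import Cfsg.Agent.Lib.Fact.Hall
import Cfsg.Agent.Lib.Char.Brauer

set_option autoImplicit false

/-! Coprime decomposition of nilpotent groups and of elements. -/

namespace H75

open Cfsg

theorem exists_dec {E : Type*} [Group E] [Finite E] [Group.IsNilpotent E] {m n : ℕ}
    (hc : m.Coprime n) (hE : Nat.card E ∣ m * n) :
    ∃ U V : Subgroup E, Nat.card U ∣ m ∧ Nat.card V ∣ n ∧
      (∀ u ∈ U, ∀ v ∈ V, Commute u v) ∧ U.IsComplement' V := by
  have h1 := H22.isPiHall_piCore_of_isNilpotent (G := E) {p | p ∣ m}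
  have h2 := H22.isPiHall_piCore_of_isNilpotent (G := E) {p | p ∣ m}ᶜ
  have c1 : (Nat.card (piCore {p | p ∣ m} E)).Coprime n :=
    Nat.coprime_of_dvd fun p hp a b => hp.one_lt.ne' (Nat.eq_one_of_dvd_coprimes hc (h1.1 p hp a) b)
  have c2 : (Nat.card (piCore {p | p ∣ m}ᶜ E)).Coprime m :=
    Nat.coprime_of_dvd fun p hp a b => h2.1 p hp a b
  refine ⟨_, _, c1.dvd_of_dvd_mul_right ((Subgroup.card_subgroup_dvd_card _).trans hE),
    c2.dvd_of_dvd_mul_left ((Subgroup.card_subgroup_dvd_card _).trans hE), fun u hu v hv =>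
      (H1.piCore_le_centralizer_piCore disjoint_compl_right hu v hv).symm, ?_⟩
  refine Subgroup.isComplement'_of_disjoint_and_mul_eq_univ
    (disjoint_iff.mpr (H1.piCore_inf_piCore_eq_bot disjoint_compl_right)) ?_
  rw [← Subgroup.normal_mul, Subgroup.coe_eq_univ, ← Subgroup.index_eq_one]
  refine Nat.eq_one_iff_not_exists_prime_dvd.mpr fun p hp hd => ?_
  by_cases h : p ∣ m
  · exact h1.2 p hp h (hd.trans (Subgroup.index_dvd_of_le le_sup_left))
  · exact h2.2 p hp h (hd.trans (Subgroup.index_dvd_of_le le_sup_right))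

/-- exponent `k` projecting onto the part of order dividing `n` -/
theorem exists_proj_exp {m n : ℕ} (hc : m.Coprime n) : ∃ k : ℕ, m ∣ k ∧ k ≡ 1 [MOD n] := by
  obtain ⟨k, h1, h2⟩ := Nat.chineseRemainder hc 0 1
  exact ⟨k, (Nat.modEq_zero_iff_dvd).mp h1, h2⟩

theorem mul_pow_proj {G : Type*} [Group G] {m n k : ℕ} (h1 : m ∣ k) (h2 : k ≡ 1 [MOD n]) {u v : G}
    (hc : Commute u v) (hu : orderOf u ∣ m) (hv : orderOf v ∣ n) : (u * v) ^ k = v := by
  rw [hc.mul_pow, orderOf_dvd_iff_pow_eq_one.mp (hu.trans h1), one_mul]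
  conv_rhs => rw [← pow_one v]
  exact pow_eq_pow_iff_modEq.mpr (h2.of_dvd hv)

theorem sum_eq_of_isComplement' {E M : Type*} [Group E] [Fintype E] [AddCommMonoid M]
    {U V : Subgroup E} [Fintype U] [Fintype V] (h : U.IsComplement' V) (f : E → M) :
    ∑ x, f x = ∑ v : V, ∑ u : U, f (u * v) := by
  rw [← Function.Bijective.sum_comp h f, Fintype.sum_prod_type, Finset.sum_comm]
  rfl

theorem isElementary_of_isCyclic {E : Type*} [Group E] [Finite E] [IsCyclic E] :
    ∃ p : ℕ, p.Prime ∧ IsElementary p E := by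
  obtain ⟨p, hp1, hp⟩ := Nat.exists_infinite_primes (Nat.card E + 1)
  obtain ⟨x, hx⟩ := IsCyclic.exists_generator (α := E)
  refine ⟨p, hp, x, ?_, ?_, 0, ?_⟩
  · rw [Subgroup.mem_center_iff]
    intro g
    obtain ⟨k, rfl⟩ := hx g
    exact (Commute.refl x).zpow_left k
  · refine ((Nat.Prime.coprime_iff_not_dvd hp).mpr fun h => ?_).symm
    have := Nat.le_of_dvd Nat.card_pos (h.trans (orderOf_dvd_natCard x))
    omega
  · rw [pow_zero, Subgroup.index_eq_one, eq_top_iff]
    exact fun g _ => hx g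

end H75
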