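import Cfsg.Agent.Base
import Cfsg.Agent.Lib.Comp.FStar
import Cfsg.Agent.Lib.Core.Coprime
import Cfsg.Agent.Lib.Core.HallSZ
import Cfsg.Agent.Lib.LocEven.Basic

/-! The Thompson–Wielandt theorem for a pair of isomorphic core-free maximal subgroups. -/

set_option autoImplicit false

namespace H75

open Cfsg Subgroup H68
open scoped commutatorElement

variable {G : Type*} [Group G]

/-- The subgroup generated by the elements of `H` of order prime to `q`. -/
def upq (q : ℕ) (H : Subgroup G) : Subgroup G := closure {x | x ∈ H ∧ (orderOf x).Coprime q}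

theorem upq_le (q : ℕ) (H : Subgroup G) : upq q H ≤ H := (closure_le _).mpr fun _ hx => hx.1

theorem mem_upq {q : ℕ} {H : Subgroup G} {x : G} (hx : x ∈ H) (h : (orderOf x).Coprime q) :
    x ∈ upq q H := subset_closure ⟨hx, h⟩

theorem normalizer_le_normalizer_upq (q : ℕ) (H : Subgroup G) :
    normalizer (H : Set G) ≤ normalizer (upq q H : Set G) := by
  rw [upq, le_normalizer_closure_iff]
  rintro a ha x ⟨hx, h⟩
  refine mem_upq (conj_mem_of_mem_normalizer ha hx) ?_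
  rwa [show a * x * a⁻¹ = MulAut.conj a x from rfl, MulEquiv.orderOf_eq]

theorem exists_pow_coprime [Finite G] {q : ℕ} (hq : q.Prime) (x : G) :
    ∃ k : ℕ, (orderOf (x ^ q ^ k)).Coprime q := by
  obtain ⟨k, m, hm, e⟩ := Nat.exists_eq_pow_mul_and_not_dvd (orderOf_pos x).ne' q hq.ne_one
  refine ⟨k, ?_⟩
  rw [orderOf_pow_of_dvd (pow_pos hq.pos k).ne' ⟨m, e⟩, e,
    Nat.mul_div_cancel_left _ (pow_pos hq.pos k)]
  exact ((Nat.Prime.coprime_iff_not_dvd hq).mpr hm).symm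

theorem isPGroup_of_upq_eq_bot [Finite G] {q : ℕ} (hq : q.Prime) {H : Subgroup G}
    (h : upq q H = ⊥) : IsPGroup q H := by
  rw [isPGroup_iff_forall]
  intro x hx
  obtain ⟨k, hk⟩ := exists_pow_coprime hq x
  exact ⟨k, mem_bot.mp (h ▸ mem_upq (pow_mem hx _) hk)⟩

theorem mem_of_coprime_of_mem_sup {q : ℕ} {N Y : Subgroup G} (hY : IsPGroup q Y)
    (hn : Y ≤ normalizer (N : Set G)) {x : G} (hx : x ∈ N ⊔ Y) (h : (orderOf x).Coprime q) :
    x ∈ N := by
  have hT : N ⊔ Y ≤ normalizer (N : Set G) := sup_le le_normalizer hn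
  have := normal_subgroupOf_of_le_normalizer hT
  obtain ⟨n, hn', y, hy, e⟩ := (H2.mem_sup_iff_of_le_normalizer hn).mp hx
  obtain ⟨k, hk⟩ := isPGroup_iff_forall.mp hY y hy
  let f := QuotientGroup.mk' (N.subgroupOf (N ⊔ Y))
  have e1 : f ⟨x, hx⟩ = f ⟨y, mem_sup_right hy⟩ := by
    have : (⟨x, hx⟩ : (N ⊔ Y : Subgroup G)) = ⟨n, mem_sup_left hn'⟩ * ⟨y, mem_sup_right hy⟩ :=
      Subtype.ext e.symm
    rw [this, map_mul, show f ⟨n, mem_sup_left hn'⟩ = 1 from (QuotientGroup.eq_one_iff _).mpr hn',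
      one_mul]
  have e2 : orderOf (f ⟨x, hx⟩) ∣ q ^ k := by
    rw [orderOf_dvd_iff_pow_eq_one, e1, ← map_pow, ← map_one f]
    congr 1
    exact Subtype.ext hk
  have e3 : orderOf (f ⟨x, hx⟩) ∣ orderOf x := by
    rw [← orderOf_mk x hx]; exact orderOf_map_dvd f _
  exact (QuotientGroup.eq_one_iff (⟨x, hx⟩ : (N ⊔ Y : Subgroup G))).mp
    (orderOf_eq_one_iff.mp (Nat.eq_one_of_dvd_coprimes (h.pow_right k) e3 e2))

theorem le_of_perfect [Finite G] {p : ℕ} (hp : p.Prime) {E K : Subgroup G} (hE : ⁅E, E⁆ = E)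
    (hn : E ≤ normalizer (K : Set G)) (h : ∀ x ∈ E, (orderOf x).Coprime p → x ∈ K) : E ≤ K := by
  have := Fact.mk hp
  have := normal_subgroupOf_of_le_normalizer hn
  have hP : IsPGroup p (E ⧸ K.subgroupOf E) := by
    intro x
    obtain ⟨x, rfl⟩ := QuotientGroup.mk_surjective x
    obtain ⟨k, hk⟩ := exists_pow_coprime hp (x : G)
    exact ⟨k, by
      rw [← QuotientGroup.mk_pow, QuotientGroup.eq_one_iff]
      exact h _ (pow_mem x.2 _) hk⟩
  have : Group.IsPerfect E := isPerfect_iff.mpr hE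
  by_contra hh
  have : Nontrivial (E ⧸ K.subgroupOf E) := by
    rw [QuotientGroup.nontrivial_iff]
    exact fun e => hh (subgroupOf_eq_top.mp e)
  exact Group.IsPerfect.not_isNilpotent (G := E ⧸ K.subgroupOf E) hP.isNilpotent

/-- The core of `Y` in `M`. -/
def coreIn (M Y : Subgroup G) : Subgroup G := (Y.subgroupOf M).normalCore.map M.subtype

theorem coreIn_le_left (M Y : Subgroup G) : coreIn M Y ≤ M := map_subtype_le _

theorem coreIn_le (M Y : Subgroup G) : coreIn M Y ≤ Y := by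
  rintro _ ⟨x, hx, rfl⟩
  exact normalCore_le (Y.subgroupOf M) hx

theorem mem_coreIn {M Y : Subgroup G} {x : G} :
    x ∈ coreIn M Y ↔ x ∈ M ∧ ∀ g ∈ M, g * x * g⁻¹ ∈ Y := by
  constructor
  · rintro ⟨y, hy, rfl⟩
    exact ⟨y.2, fun g hg => hy ⟨g, hg⟩⟩
  · rintro ⟨h1, h2⟩
    exact ⟨⟨x, h1⟩, fun g => h2 g g.2, rfl⟩

theorem le_normalizer_coreIn (M Y : Subgroup G) : M ≤ normalizer (coreIn M Y : Set G) := by
  rw [le_normalizer_iff]
  intro g hg x hx
  rw [mem_coreIn] at hx ⊢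
  refine ⟨M.mul_mem (M.mul_mem hg hx.1) (M.inv_mem hg), fun a ha => ?_⟩
  simpa [mul_assoc] using hx.2 (a * g) (M.mul_mem ha hg)

theorem le_coreIn {M Y K : Subgroup G} (h1 : K ≤ M) (h2 : K ≤ Y)
    (hn : M ≤ normalizer (K : Set G)) : K ≤ coreIn M Y := fun _ hx =>
  mem_coreIn.mpr ⟨h1 hx, fun _ hg => h2 (conj_mem_of_mem_normalizer (hn hg) hx)⟩

/-- The standing hypotheses of the Thompson–Wielandt theorem. -/
structure TWPair (M₁ M₂ : Subgroup G) : Prop where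
  n1 : ∀ K : Subgroup G, K ≠ ⊥ → K ≤ M₁ → M₁ ≤ normalizer (K : Set G) → normalizer (K : Set G) ≤ M₁
  n2 : ∀ K : Subgroup G, K ≠ ⊥ → K ≤ M₂ → M₂ ≤ normalizer (K : Set G) → normalizer (K : Set G) ≤ M₂
  nle1 : ¬ M₁ ≤ M₂
  nle2 : ¬ M₂ ≤ M₁
  iso : Nonempty (M₁ ≃* M₂)

theorem TWPair.symm {M₁ M₂ : Subgroup G} (h : TWPair M₁ M₂) : TWPair M₂ M₁ :=
  ⟨h.n2, h.n1, h.nle2, h.nle1, ⟨h.iso.some.symm⟩⟩

theorem normalizer_le_of_isCoatom {M : Subgroup G} (hM : IsCoatom M) (hc : M.normalCore = ⊥)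
    (K : Subgroup G) (h1 : K ≠ ⊥) (h2 : K ≤ M) (h3 : M ≤ normalizer (K : Set G)) :
    normalizer (K : Set G) ≤ M := by
  rcases h3.eq_or_lt with e | e
  · exact e.ge
  · have := normalizer_eq_top_iff.mp (hM.2 _ e)
    exact absurd (le_bot_iff.mp (hc ▸ (normal_le_normalCore.mpr h2))) h1

theorem twPair_of_isCoatom {M₁ M₂ : Subgroup G} (h1 : IsCoatom M₁) (h2 : IsCoatom M₂)
    (c1 : M₁.normalCore = ⊥) (c2 : M₂.normalCore = ⊥) (hne : M₁ ≠ M₂)
    (iso : Nonempty (M₁ ≃* M₂)) : TWPair M₁ M₂ :=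
  ⟨normalizer_le_of_isCoatom h1 c1, normalizer_le_of_isCoatom h2 c2,
    fun h => hne ((h1.le_iff_eq h2.1).mp h).symm, fun h => hne ((h2.le_iff_eq h1.1).mp h), iso⟩

variable [Finite G] {M₁ M₂ : Subgroup G}

omit [Finite G] in
theorem TWPair.card_pCoreOf (h : TWPair M₁ M₂) (q : ℕ) :
    Nat.card (pCoreOf q M₁) = Nat.card (pCoreOf q M₂) := by
  obtain ⟨e⟩ := h.iso
  rw [H1.pCoreOf_def, H1.pCoreOf_def, H3.card_map_subtype, H3.card_map_subtype,
    ← H1.map_pCore_equiv e, card_map_of_injective e.injective]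

omit [Finite G] in
theorem TWPair.card_layer (h : TWPair M₁ M₂) :
    Nat.card ((layer M₁).map M₁.subtype) = Nat.card ((layer M₂).map M₂.subtype) := by
  obtain ⟨e⟩ := h.iso
  rw [H3.card_map_subtype, H3.card_map_subtype,
    ← H23.map_layer_equiv e, card_map_of_injective e.injective]

omit [Finite G] in
theorem TWPair.eq_bot (h : TWPair M₁ M₂) {K : Subgroup G} (hK : K ≤ M₁)
    (h1 : M₁ ≤ normalizer (K : Set G)) (h2 : M₂ ≤ normalizer (K : Set G)) : K = ⊥ := by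
  by_contra hne
  exact h.nle2 (h2.trans (h.n1 K hne hK h1))

/-- If `O_q(M₁ ∩ M₂) ≤ O_q(M₂) ≤ M₁` then `O_q(M₁) = 1`. -/
theorem TWPair.pCoreOf_eq_bot_of_le (h : TWPair M₁ M₂) {q : ℕ} [Fact q.Prime]
    (h1 : pCoreOf q M₂ ≤ M₁) (h2 : pCoreOf q (M₁ ⊓ M₂) ≤ pCoreOf q M₂) : pCoreOf q M₁ = ⊥ := by
  have hc := h.card_pCoreOf q
  by_contra hne
  have hne2 : pCoreOf q M₂ ≠ ⊥ := fun e => hne (by
    rw [e, card_bot] at hc; exact card_eq_one.mp hc)
  have hN := h.n2 _ hne2 (H1.pCoreOf_le _) (H1.le_normalizer_pCoreOf _)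
  have hn : pCoreOf q M₂ ≤ normalizer (pCoreOf q M₁ : Set G) :=
    h1.trans (H1.le_normalizer_pCoreOf _)
  have hle : pCoreOf q M₁ ≤ pCoreOf q M₂ := by
    by_contra hh
    have hlt : pCoreOf q M₂ < pCoreOf q M₁ ⊔ pCoreOf q M₂ :=
      lt_of_le_of_ne le_sup_right fun e => hh (e ▸ le_sup_left)
    obtain ⟨x, hx, hx1, hx2⟩ := exists_mem_normalizer_of_lt
      ((H1.isPGroup_pCoreOf _).to_sup_of_normal_left' (H1.isPGroup_pCoreOf _) hn) hlt
    obtain ⟨a, ha, b, hb, rfl⟩ := (H2.mem_sup_iff_of_le_normalizer hn).mp hx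
    have h3 : a ∈ M₂ := (mul_mem_cancel_right (H1.pCoreOf_le _ hb)).mp (hN hx2)
    exact hx1 (mul_mem (h2 (H1.pCoreOf_inf_le inf_le_left ⟨ha, H1.pCoreOf_le _ ha, h3⟩)) hb)
  have e := eq_of_le_of_card_ge hle hc.ge
  exact hne (h.eq_bot (H1.pCoreOf_le _) (H1.le_normalizer_pCoreOf _)
    (e ▸ H1.le_normalizer_pCoreOf _))

/-- If a normal subgroup of `M₁` inside both cores is not a `q`-group then `O_q(M₁) = 1`. -/
theorem TWPair.pCoreOf_eq_bot (h : TWPair M₁ M₂) {A : Subgroup G}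
    (hA : A ≤ coreIn M₁ (M₁ ⊓ M₂) ⊓ coreIn M₂ (M₁ ⊓ M₂)) (hn : M₁ ≤ normalizer (A : Set G))
    {q : ℕ} [hq : Fact q.Prime] (hAq : ¬ IsPGroup q A) : pCoreOf q M₁ = ⊥ := by
  set A1 := coreIn M₁ (M₁ ⊓ M₂)
  set B1 := coreIn M₂ (M₁ ⊓ M₂)
  have hA1 : A1 ≤ M₁ ⊓ M₂ := coreIn_le _ _
  have hB1 : B1 ≤ M₁ ⊓ M₂ := coreIn_le _ _
  have nA1 : M₁ ≤ normalizer (A1 : Set G) := le_normalizer_coreIn _ _
  have nB1 : M₂ ≤ normalizer (B1 : Set G) := le_normalizer_coreIn _ _
  have hAM : A ≤ M₁ := (hA.trans inf_le_left).trans (hA1.trans inf_le_left)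
  have hU : normalizer (upq q A : Set G) ≤ M₁ :=
    h.n1 _ (fun e => hAq (isPGroup_of_upq_eq_bot hq.out e)) ((upq_le _ _).trans hAM)
      (hn.trans (normalizer_le_normalizer_upq _ _))
  set Y := pCoreOf q B1
  have hY : Y ≤ B1 := H1.pCoreOf_le _
  have nY : M₂ ≤ normalizer (Y : Set G) := nB1.trans (H1.normalizer_le_normalizer_pCoreOf _)
  have hYM : Y ≤ M₁ := hY.trans (hB1.trans inf_le_left)
  have hup : upq q (A ⊔ Y) = upq q A := by
    refine le_antisymm ((closure_le _).mpr fun x hx => mem_upq ?_ hx.2)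
      ((closure_le _).mpr fun x hx => mem_upq (mem_sup_left hx.1) hx.2)
    exact mem_of_coprime_of_mem_sup (H1.isPGroup_pCoreOf _) (hYM.trans hn) hx.1 hx.2
  let C := M₂ ⊓ H2.relCentralizer B1 Y
  have hC1 : C ≤ M₁ := by
    refine le_trans ?_ hU
    rw [← hup]
    refine le_trans ?_ (normalizer_le_normalizer_upq _ _)
    rw [le_normalizer_iff]
    intro c hc x hx
    have hxB : x ∈ B1 := (sup_le (hA.trans inf_le_right) hY) hx
    have := mul_mem (mem_sup_right (S := A) (hc.2.2 x hxB)) hx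
    simpa [commutatorElement_def] using this
  have hCn : M₂ ≤ normalizer (C : Set G) := by
    rw [le_normalizer_iff]
    intro g hg c hc
    refine ⟨M₂.mul_mem (M₂.mul_mem hg hc.1) (M₂.inv_mem hg),
      nY (M₂.mul_mem (M₂.mul_mem hg hc.1) (M₂.inv_mem hg)), fun z hz => ?_⟩
    have := conj_mem_of_mem_normalizer (nY hg)
      (hc.2.2 _ (conj_mem_of_mem_normalizer' (nB1 hg) hz))
    simpa [commutatorElement_def, mul_assoc] using this
  have hCB : C ≤ B1 := le_coreIn inf_le_left (le_inf hC1 inf_le_left) hCn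
  have key : ∀ Q : Subgroup G, Q ≤ M₂ → IsPGroup q Q → B1 ≤ normalizer (Q : Set G) → Q ≤ Y := by
    intro Q h1 h2 h3
    have h4 : Q ⊓ B1 ≤ Y := H1.le_pCoreOf inf_le_right (H2.le_normalizer_inf h3 le_normalizer)
      (h2.to_le inf_le_left)
    refine le_trans (le_inf le_rfl (le_trans ?_ hCB)) h4
    refine le_inf h1 (H2.le_relCentralizer_iff.mpr ⟨h1.trans nY, le_trans (le_inf ?_ ?_) h4⟩)
    · exact le_normalizer_iff_commutator_le_left.mp h3
    · exact le_normalizer_iff_commutator_le_right.mp (h1.trans nB1)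
  refine h.pCoreOf_eq_bot_of_le ?_ ?_
  · exact (key _ (H1.pCoreOf_le _) (H1.isPGroup_pCoreOf _)
      ((hB1.trans inf_le_right).trans (H1.le_normalizer_pCoreOf _))).trans hYM
  · exact (key _ ((H1.pCoreOf_le _).trans inf_le_right) (H1.isPGroup_pCoreOf _)
      (hB1.trans (H1.le_normalizer_pCoreOf _))).trans
      (H1.le_pCoreOf (hY.trans (hB1.trans inf_le_right)) nY (H1.isPGroup_pCoreOf _))

theorem TWPair.layer_le (h : TWPair M₁ M₂) {A : Subgroup G}
    (hA : A ≤ coreIn M₁ (M₁ ⊓ M₂) ⊓ coreIn M₂ (M₁ ⊓ M₂)) (hn : M₁ ≤ normalizer (A : Set G))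
    (hA1 : A ≠ ⊥) : (layer M₂).map M₂.subtype ≤ M₁ := by
  have hB1 : coreIn M₂ (M₁ ⊓ M₂) ≤ M₁ ⊓ M₂ := coreIn_le _ _
  have hAB := hA.trans inf_le_right
  refine le_trans ?_ (h.n1 A hA1 (hAB.trans (hB1.trans inf_le_left)) hn)
  have h1 : (A.subgroupOf M₂).IsSubnormal := by
    refine H23.isSubnormal_subgroupOf_trans hAB (hB1.trans inf_le_right) ?_ ?_
    · exact (normal_subgroupOf_of_le_normalizer ((hB1.trans inf_le_left).trans hn)).isSubnormal
    · exact (normal_subgroupOf_of_le_normalizer (le_normalizer_coreIn _ _)).isSubnormal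
  have h2 := H23.layer_le_normalizer_of_isSubnormal h1
  rw [← subgroupOf_normalizer_eq (hAB.trans (hB1.trans inf_le_right))] at h2
  rintro _ ⟨x, hx, rfl⟩
  exact h2 hx

omit [Finite G] in
theorem map_layer_le_centralizer {M H : Subgroup G} (hH : H ≤ M) (hs : Group.IsSolvable H)
    (hn : (layer M).map M.subtype ≤ normalizer (H : Set G)) :
    (layer M).map M.subtype ≤ centralizer (H : Set G) := by
  have h1 := H23.commutator_layer_eq_bot_of_isSolvable (G := M) (H := H.subgroupOf M)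
    (Group.isSolvable_of_isSolvable_injective (f := (subgroupOfEquivOfLe hH).toMonoidHom)
      (subgroupOfEquivOfLe hH).injective)
    (by rw [← subgroupOf_normalizer_eq hH]; exact fun x hx => hn ⟨x, hx, rfl⟩)
  rw [commutator_eq_bot_iff_le_centralizer] at h1
  rintro _ ⟨x, hx, rfl⟩ y hy
  exact congrArg Subtype.val (h1 hx ⟨y, hH hy⟩ hy)

theorem TWPair.layer_le_centralizer (h : TWPair M₁ M₂) {A : Subgroup G}
    (hA : A ≤ coreIn M₁ (M₁ ⊓ M₂) ⊓ coreIn M₂ (M₁ ⊓ M₂)) (hn : M₁ ≤ normalizer (A : Set G))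
    (hA1 : A ≠ ⊥) (p : ℕ) [hp : Fact p.Prime] :
    (layer M₂).map M₂.subtype ≤ centralizer (pCoreOf p M₁ : Set G) := by
  by_cases hAp : IsPGroup p A
  swap
  · rw [h.pCoreOf_eq_bot hA hn hAp, le_centralizer_iff]; exact bot_le
  set E := (layer M₂).map M₂.subtype
  set B1 := coreIn M₂ (M₁ ⊓ M₂)
  have hB1 : B1 ≤ M₁ ⊓ M₂ := coreIn_le _ _
  have nB1 : M₂ ≤ normalizer (B1 : Set G) := le_normalizer_coreIn _ _
  have hE1 : E ≤ M₁ := h.layer_le hA hn hA1
  have hE2 : E ≤ M₂ := map_subtype_le _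
  set Y := pCoreOf p B1
  have hY : Y ≤ B1 := H1.pCoreOf_le _
  have nY : M₂ ≤ normalizer (Y : Set G) := nB1.trans (H1.normalizer_le_normalizer_pCoreOf _)
  have hAY : A ≤ Y := H1.le_pCoreOf (hA.trans inf_le_right) ((hB1.trans inf_le_left).trans hn) hAp
  have hNY := h.n2 Y (fun e => hA1 (le_bot_iff.mp (e ▸ hAY))) (hY.trans (hB1.trans inf_le_right)) nY
  have nP : M₁ ≤ normalizer (pCoreOf p M₁ : Set G) := H1.le_normalizer_pCoreOf _
  have sol : ∀ X : Subgroup G, IsPGroup p X → Group.IsSolvable X := fun X hX => by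
    have := hX.isNilpotent
    infer_instance
  have c1 : E ≤ centralizer (Y : Set G) := map_layer_le_centralizer
    (hY.trans (hB1.trans inf_le_right)) (sol _ (H1.isPGroup_pCoreOf _)) (hE2.trans nY)
  have c2 : E ≤ centralizer ((pCoreOf p M₁ ⊓ M₂ : Subgroup G) : Set G) := map_layer_le_centralizer
    inf_le_right (sol _ ((H1.isPGroup_pCoreOf _).to_le inf_le_left))
    (H2.le_normalizer_inf (hE1.trans nP) (hE2.trans le_normalizer))
  refine le_of_perfect hp.out (by rw [← map_commutator, H23.commutator_layer_self])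
    (H2.le_normalizer_centralizer (hE1.trans nP)) fun x hx hc => ?_
  have hz : zpowers x ≤ E := zpowers_le_of_mem hx
  refine H2.thompson_PxQ (P := Y) (Q := zpowers x) (H1.isPGroup_pCoreOf _)
    (by rwa [Nat.card_zpowers]) (H1.isPGroup_pCoreOf M₁) (le_centralizer_iff.mp (hz.trans c1))
    ((hY.trans (hB1.trans inf_le_left)).trans nP) ((hz.trans hE1).trans nP) ?_ (mem_zpowers x)
  exact (inf_le_inf_left _ ((centralizer_le_normalizer _).trans hNY)).trans
    (le_centralizer_iff.mp (hz.trans c2))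

theorem TWPair.layer_eq_bot (h : TWPair M₁ M₂) {A B : Subgroup G}
    (hA : A ≤ coreIn M₁ (M₁ ⊓ M₂) ⊓ coreIn M₂ (M₁ ⊓ M₂)) (hn : M₁ ≤ normalizer (A : Set G))
    (hA1 : A ≠ ⊥)
    (hB : B ≤ coreIn M₁ (M₁ ⊓ M₂) ⊓ coreIn M₂ (M₁ ⊓ M₂)) (hn' : M₂ ≤ normalizer (B : Set G))
    (hB1 : B ≠ ⊥) : layer M₁ = ⊥ := by
  have hE1 : (layer M₁).map M₁.subtype ≤ M₂ :=
    h.symm.layer_le (by rwa [inf_comm M₂ M₁, inf_comm]) hn' hB1
  have hE2 := h.layer_le hA hn hA1
  have nE1 : M₁ ≤ normalizer (((layer M₁).map M₁.subtype : Subgroup G) : Set G) :=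
    H2.le_normalizer_map_subtype_of_characteristic le_normalizer _
  have nE2 : M₂ ≤ normalizer (((layer M₂).map M₂.subtype : Subgroup G) : Set G) :=
    H2.le_normalizer_map_subtype_of_characteristic le_normalizer _
  have hle : (layer M₂).map M₂.subtype ≤ (layer M₁).map M₁.subtype := by
    rw [map_le_iff_le_comap, H23.layer_le_iff]
    intro L hL
    have hLE : L.map M₂.subtype ≤ (layer M₂).map M₂.subtype := map_mono (H23.IsComponent.le_layer hL)
    refine (H23.IsComponent.le_or_commutator_eq_bot_of_le_normalizer hL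
      (H := ((layer M₁).map M₁.subtype).subgroupOf M₂) ?_).resolve_right fun hc => ?_
    · rw [← subgroupOf_normalizer_eq hE1]
      exact fun x hx => nE1 (hE2 (hLE ⟨x, hx, rfl⟩))
    · rw [commutator_eq_bot_iff_le_centralizer] at hc
      have c1 : L.map M₂.subtype ≤ centralizer
          (((generalizedFittingSubgroup M₁).map M₁.subtype : Subgroup G) : Set G) := by
        rw [le_centralizer_iff, H23.map_fStar_subtype]
        refine sup_le ?_ ?_
        · rw [le_centralizer_iff]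
          rintro _ ⟨x, hx, rfl⟩ y hy
          exact congrArg Subtype.val (hc hx ⟨y, hE1 hy⟩ hy)
        · refine (H1.fittingOf_eq_iSup_pCoreOf M₁).le.trans (iSup_le fun p => ?_)
          have := Fact.mk p.2
          exact le_centralizer_iff.mp (hLE.trans (h.layer_le_centralizer hA hn hA1 p))
      have c2 := (le_inf (hLE.trans hE2) c1).trans (H23.inf_centralizer_map_fStar_le M₁)
      apply H23.IsComponent.not_le_centralizer hL
      intro x hx y hy
      exact Subtype.ext (c1 ⟨x, hx, rfl⟩ _ (c2 ⟨y, hy, rfl⟩))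
  have e := eq_of_le_of_card_ge hle h.card_layer.le
  exact (map_eq_bot_iff_of_injective _ M₁.subtype_injective).mp
    (h.eq_bot (map_subtype_le _) nE1 (e ▸ nE2))

/-- The Thompson–Wielandt theorem. -/
theorem TWPair.main (h : TWPair M₁ M₂) {A B : Subgroup G}
    (hA : A ≤ coreIn M₁ (M₁ ⊓ M₂) ⊓ coreIn M₂ (M₁ ⊓ M₂)) (hn : M₁ ≤ normalizer (A : Set G))
    (hA1 : A ≠ ⊥)
    (hB : B ≤ coreIn M₁ (M₁ ⊓ M₂) ⊓ coreIn M₂ (M₁ ⊓ M₂)) (hn' : M₂ ≤ normalizer (B : Set G))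
    (hB1 : B ≠ ⊥) : ∃ p : ℕ, p.Prime ∧ IsPGroup p A ∧ IsPGroup p B ∧
      generalizedFittingSubgroup M₁ = pCore p M₁ ∧ generalizedFittingSubgroup M₂ = pCore p M₂ := by
  have hE := h.layer_eq_bot hA hn hA1 hB hn' hB1
  have hM : Nontrivial M₁ := (nontrivial_iff_ne_bot _).mpr fun e => h.nle1 (e ▸ bot_le)
  have hF := H23.fStar_ne_bot (G := M₁)
  rw [H23.fStar_def, hE, bot_sup_eq, H1.fitting_eq_iSup_pCore, Ne, iSup_eq_bot] at hF
  push Not at hF
  obtain ⟨p, hp⟩ := hF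
  have := Fact.mk p.2
  have hp1 : pCoreOf p M₁ ≠ ⊥ := fun e =>
    hp ((map_eq_bot_iff_of_injective _ M₁.subtype_injective).mp e)
  have hp2 : pCoreOf p M₂ ≠ ⊥ := fun e => hp1 (by
    have hc := h.card_pCoreOf p
    rw [e, card_bot] at hc; exact card_eq_one.mp hc)
  have hAp : IsPGroup p A := by
    by_contra hh; exact hp1 (h.pCoreOf_eq_bot hA hn hh)
  have hBp : IsPGroup p B := by
    by_contra hh; exact hp2 (h.symm.pCoreOf_eq_bot (by rwa [inf_comm M₂ M₁, inf_comm]) hn' hh)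
  have h1 : generalizedFittingSubgroup M₁ = pCore p M₁ := by
    refine le_antisymm ?_ (H23.pCore_le_fStar p)
    rw [H23.fStar_def, hE, bot_sup_eq, H1.fitting_eq_iSup_pCore]
    refine iSup_le fun q => ?_
    by_cases e : q = p
    · rw [e]
    · have := Fact.mk q.2
      have h2 : ¬ IsPGroup q A := fun hq =>
        hA1 (disjoint_self.mp (IsPGroup.disjoint_of_ne q p (fun e' => e (Subtype.ext e')) A A hq hAp))
      rw [(map_eq_bot_iff_of_injective _ M₁.subtype_injective).mp (h.pCoreOf_eq_bot hA hn h2)]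
      exact bot_le
  refine ⟨p, p.2, hAp, hBp, h1, ?_⟩
  obtain ⟨e⟩ := h.iso
  rw [← H23.map_fStar_equiv e, h1, H1.map_pCore_equiv]

end H75
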